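import Cfsg.Agent.H221.CY.Prep
import Cfsg.Agent.H221.CY.Three
import Cfsg.Agent.H598.CY.Orb
import Cfsg.Agent.H35.CY.Num

/-!
# S4829 : the rows of the polar spaces, assembly (helper162)

`rowA_dvd` : `p ∣ |X k|`, `1 ≤ k ≤ K`, gives `RowA p S` (helper221's action, helper598's L2);
`rowA_sp_of`, `rowA_minus_of`, `rowA_plus_of` : the families, with the linear type `Lin` and the cyclic case `CycC` (and for
the plus type `w = 2 d - 2`, `w = 6 ∧ d = 4`) as hypotheses.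
-/

set_option autoImplicit false

open Module Subgroup Cfsg
open Cfsg.Agent.H2.Pol Cfsg.Agent.H674.BR Cfsg.Agent.H646.BR Cfsg.Agent.H145.BR Cfsg.Agent.H623.BR Cfsg.Agent.H31.BR
open Cfsg.Agent.H770.CY Cfsg.Agent.H221.CY Cfsg.Agent.H35.CY

namespace Cfsg.Agent.H162.CY

universe u

variable {p : ℕ} [hp : Fact p.Prime] {F V : Type*} {G H : Type*} {S : Type u} [Field F] [Fintype F] [AddCommGroup V]
  [Module F V] [FiniteDimensional F V] [Group G] [Group H] [Group S] {Φ : Pol F V} {ρ : G →* (V ≃ₗ[F] V)} {ι : H →* G}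
  {ρ' : H →* (V ≃ₗ[F] V)} {π : H →* S} {w ε K : ℕ}

/-- **`p` divides the number of totally singular `k`-spaces** -/
theorem rowA_dvd [Fintype S] [IsSimpleGroup S] (hnc : ¬ IsMulCommutative S) (I : PolInst p Φ ρ ι ρ' π w ε K)
    (hall : ∀ a : MulAut S, ∃ M : V ≃+ V, SemiAct Φ M ∧ Induces ρ' π M a) (hw : 2 ≤ w) (hK : 1 ≤ K) {k : ℕ}
    (h1 : 1 ≤ k) (hk : k ≤ K) (hd : p ∣ Nat.card (Φ.X k)) : RowA p S := by
  have h3 := three_le I hw
  let _ := autAction I hK h3 hall k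
  have _ : Nonempty (Φ.X k) := by
    have h2 : 0 < Nat.card (Φ.X k) := CC.pos I.card Finite.one_lt_card (hk.trans I.K_le)
    exact (Nat.card_pos_iff.1 h2).1
  refine H598.CY.rowA_of_dvd (Ω := Φ.X k) hnc (fun x y => exists_conj I hK h3 hall h1 hk x y)
    (fun a x y => exists_orbital I hK h3 hall h1 hk a x y) (fun θ hθ => cyc_constituent I hk θ ?_) hd
  have h4 : (fun s : S => permC (MulAut S) (Φ.X k) (MulAut.conj s)) =
      (letI := I.model.mulAction k; permC S (Φ.X k)) := funext fun s => permC_conj I hK h3 hall k s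
  rw [h4] at hθ
  exact hθ

/-- **symplectic and odd orthogonal groups** -/
theorem rowA_sp_of [Fintype S] [IsSimpleGroup S] (hnc : ¬ IsMulCommutative S) (I : PolInst p Φ ρ ι ρ' π w 1 w)
    (hall : ∀ a : MulAut S, ∃ M : V ≃+ V, SemiAct Φ M ∧ Induces ρ' π M a) (hp2 : p ≠ 2) (hpq : ¬ p ∣ Nat.card F)
    (hw : 2 ≤ w) (hS : p ∣ ∏ i ∈ Finset.range w, (Nat.card F ^ (2 * (i + 1)) - 1))
    (hcyc : CycC p (Nat.card F) w → RowA p S) (hlin : Lin p (Nat.card F) w → RowA p S) : RowA p S := by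
  rcases tri_sp hp2 Finite.one_lt_card hpq I.card hw hS with ⟨k, h1, h2, h3⟩ | h | h
  · exact rowA_dvd hnc I hall hw (by omega) h1 h2 h3
  · exact hcyc h
  · exact hlin h

/-- **orthogonal groups of minus type** (Witt index `w`) -/
theorem rowA_minus_of [Fintype S] [IsSimpleGroup S] (hnc : ¬ IsMulCommutative S) (I : PolInst p Φ ρ ι ρ' π w 2 w)
    (hall : ∀ a : MulAut S, ∃ M : V ≃+ V, SemiAct Φ M ∧ Induces ρ' π M a) (hp2 : p ≠ 2) (hpq : ¬ p ∣ Nat.card F)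
    (hw : 2 ≤ w) (hS : p ∣ (Nat.card F ^ (w + 1) + 1) * ∏ i ∈ Finset.range w, (Nat.card F ^ (2 * (i + 1)) - 1))
    (hcyc : CycC p (Nat.card F) w → RowA p S) (hlin : Lin p (Nat.card F) w → RowA p S) : RowA p S := by
  rcases tri_minus hp2 Finite.one_lt_card hpq I.card hw hS with ⟨k, h1, h2, h3⟩ | h | h
  · exact rowA_dvd hnc I hall hw (by omega) h1 h2 h3
  · exact hcyc h
  · exact hlin h

/-- **orthogonal groups of plus type**, `w ≥ 5` -/
theorem rowA_plus_of [Fintype S] [IsSimpleGroup S] (hnc : ¬ IsMulCommutative S) (I : PolInst p Φ ρ ι ρ' π w 0 K)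
    (hall : ∀ a : MulAut S, ∃ M : V ≃+ V, SemiAct Φ M ∧ Induces ρ' π M a) (hK : ∀ k, 2 * k < w → k ≤ K)
    (hp2 : p ≠ 2) (hpq : ¬ p ∣ Nat.card F) (hw : 5 ≤ w)
    (hS : p ∣ (Nat.card F ^ w - 1) * ∏ i ∈ Finset.range (w - 1), (Nat.card F ^ (2 * (i + 1)) - 1))
    (hcyc : CycC p (Nat.card F) w → RowA p S) (hlin : Lin p (Nat.card F) w → RowA p S)
    (h2d : Odd (orderOf ((Nat.card F : ℕ) : ZMod p)) → w = 2 * orderOf ((Nat.card F : ℕ) : ZMod p) - 2 → RowA p S)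
    (h64 : w = 6 → orderOf ((Nat.card F : ℕ) : ZMod p) = 4 → RowA p S) : RowA p S := by
  rcases tri_plus hp2 Finite.one_lt_card hpq I.card hw hK hS with ⟨k, h1, h2, h3⟩ | h | h | ⟨h, h'⟩ | ⟨h, h'⟩
  · exact rowA_dvd hnc I hall (by omega) (hK 1 (by omega)) h1 h2 h3
  · exact hcyc h
  · exact hlin h
  · exact h2d h h'
  · exact h64 h h'

end Cfsg.Agent.H162.CY
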