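import Cfsg.Agent.H162.CY.Row
import Cfsg.Agent.H104.CY.PolRel

/-!
# S4829 : the rows of the polar spaces, with the linear type (helper162; the constituent is helper104's)

`rowA_rel` : `d` the order of `q` modulo `p` (`d = 1` allowed), `d ≤ K`, `p ∤ |X (2 d)|` gives `RowA p S`;
`rowA_sp`, `rowA_minus`, `rowA_plus` : the families.
-/

set_option autoImplicit false

open Module Subgroup Cfsg
open Cfsg.Agent.H2.Pol Cfsg.Agent.H674.BR Cfsg.Agent.H646.BR Cfsg.Agent.H145.BR Cfsg.Agent.H623.BR Cfsg.Agent.H31.BR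
open Cfsg.Agent.H770.CY Cfsg.Agent.H221.CY Cfsg.Agent.H35.CY

namespace Cfsg.Agent.H162.CY

universe u

variable {p : ℕ} [hp : Fact p.Prime] {F V : Type*} {G H : Type*} {S : Type u} [Field F] [Fintype F] [AddCommGroup V]
  [Module F V] [FiniteDimensional F V] [Group G] [Group H] [Group S] {Φ : Pol F V} {ρ : G →* (V ≃ₗ[F] V)} {ι : H →* G}
  {ρ' : H →* (V ≃ₗ[F] V)} {π : H →* S} {w ε K : ℕ}

/-- **the linear type** -/
theorem rowA_rel [Finite G] [Fintype S] [IsSimpleGroup S] (hnc : ¬ IsMulCommutative S) (I : PolInst p Φ ρ ι ρ' π w ε K)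
    (hall : ∀ a : MulAut S, ∃ M : V ≃+ V, SemiAct Φ M ∧ Induces ρ' π M a) (hw : 2 ≤ w) (hK : 1 ≤ K) (hp2 : p ≠ 2)
    (hpq : ¬ p ∣ Nat.card F) (hdK : orderOf ((Nat.card F : ℕ) : ZMod p) ≤ K)
    (h2 : ¬ p ∣ Nat.card (Φ.X (2 * orderOf ((Nat.card F : ℕ) : ZMod p)))) : RowA p S := by
  intro A hA M hM
  obtain ⟨hSA, X, hXA, hSX, hn, hpX, k, hk⟩ := hA
  have h3 := three_le I hw
  set d := orderOf ((Nat.card F : ℕ) : ZMod p) with hd
  have hd1 : 1 ≤ d := Arith.order_pos hpq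
  let _ := autAction I hK h3 hall d
  have _ : Nonempty (Φ.X d) := by
    have h0 : 0 < Nat.card (Φ.X d) := CC.pos I.card Finite.one_lt_card (hdK.trans I.K_le)
    exact (Nat.card_pos_iff.1 h0).1
  have _ : Finite (MulAut S) := inferInstance
  have _ := Fintype.ofFinite X
  obtain ⟨χ, hχ1, hχ2, hχ3, hχ4⟩ := H104.CY.exists_polRel hM hnc I hK h3 hall hp2 hpq hd.symm hd1 hdK h2 X hSX hpX
  have h4 : (fun s : S => permC (MulAut S) (Φ.X d) (MulAut.conj s)) =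
      (letI := I.model.mulAction d; permC S (Φ.X d)) := funext fun s => permC_conj I hK h3 hall d s
  refine H598.CY.wit_of_const (Ω := Φ.X d) hnc hM hSA X hXA hSX hn hpX hk (fun x w => rfl)
    (fun a x y => exists_orbital I hK h3 hall hd1 hdK a x y) (fun θ hθ => cyc_constituent I hdK θ ?_) χ hχ1 hχ2 hχ3 hχ4
  have h5 : classInner (fun s : S => permC (MulAut S) (Φ.X d) (MulAut.conj s)) (θ : S → ℂ) ≠ 0 := hθ
  rw [h4] at h5
  exact h5

/-- the linear type, from `Lin` -/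
theorem rowA_lin [Finite G] [Fintype S] [IsSimpleGroup S] (hnc : ¬ IsMulCommutative S) (I : PolInst p Φ ρ ι ρ' π w ε K)
    (hall : ∀ a : MulAut S, ∃ M : V ≃+ V, SemiAct Φ M ∧ Induces ρ' π M a) (hw : 2 ≤ w) (hK : 1 ≤ K) (hp2 : p ≠ 2)
    (hpq : ¬ p ∣ Nat.card F) (hdK : orderOf ((Nat.card F : ℕ) : ZMod p) ≤ K) (hlin : Lin p (Nat.card F) w) :
    RowA p S := by
  obtain ⟨hodd, a, ha, hwa, h0, h1⟩ := hlin
  refine rowA_rel hnc I hall hw hK hp2 hpq hdK ?_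
  rw [← ZMod.natCast_eq_zero_iff, card_lin_two' hp2 Finite.one_lt_card hpq I.card hodd ha hwa]
  intro h
  have h2 : ((2 : ℕ) : ZMod p) ≠ 0 := by
    rw [Ne, ZMod.natCast_eq_zero_iff]
    exact fun h => hp2 ((Nat.prime_dvd_prime_iff_eq hp.out Nat.prime_two).1 h)
  have h3 : ((a : ℕ) : ZMod p) ≠ 0 := by
    rw [Ne, ZMod.natCast_eq_zero_iff]
    exact h0
  have h4 : ((a - 1 : ℕ) : ZMod p) ≠ 0 := by
    rw [Ne, ZMod.natCast_eq_zero_iff]
    exact h1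
  rw [Nat.cast_sub (by omega), Nat.cast_one] at h4
  push_cast at h2
  rcases mul_eq_zero.1 h with h5 | h5
  · rcases mul_eq_zero.1 h5 with h6 | h6
    · exact h2 h6
    · exact h3 h6
  · exact h4 h5

/-- **symplectic and odd orthogonal groups** -/
theorem rowA_sp [Finite G] [Fintype S] [IsSimpleGroup S] (hnc : ¬ IsMulCommutative S) (I : PolInst p Φ ρ ι ρ' π w 1 w)
    (hall : ∀ a : MulAut S, ∃ M : V ≃+ V, SemiAct Φ M ∧ Induces ρ' π M a) (hp2 : p ≠ 2) (hpq : ¬ p ∣ Nat.card F)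
    (hw : 2 ≤ w) (hS : p ∣ ∏ i ∈ Finset.range w, (Nat.card F ^ (2 * (i + 1)) - 1))
    (hcyc : CycC p (Nat.card F) w → RowA p S) : RowA p S := by
  refine rowA_sp_of hnc I hall hp2 hpq hw hS hcyc fun h => rowA_lin hnc I hall hw (by omega) hp2 hpq ?_ h
  obtain ⟨-, a, ha, hwa, -⟩ := h
  have := Nat.mul_le_mul_right (orderOf ((Nat.card F : ℕ) : ZMod p)) ha
  omega

/-- **orthogonal groups of minus type** (Witt index `w`) -/
theorem rowA_minus [Finite G] [Fintype S] [IsSimpleGroup S] (hnc : ¬ IsMulCommutative S)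
    (I : PolInst p Φ ρ ι ρ' π w 2 w)
    (hall : ∀ a : MulAut S, ∃ M : V ≃+ V, SemiAct Φ M ∧ Induces ρ' π M a) (hp2 : p ≠ 2) (hpq : ¬ p ∣ Nat.card F)
    (hw : 2 ≤ w) (hS : p ∣ (Nat.card F ^ (w + 1) + 1) * ∏ i ∈ Finset.range w, (Nat.card F ^ (2 * (i + 1)) - 1))
    (hcyc : CycC p (Nat.card F) w → RowA p S) : RowA p S := by
  refine rowA_minus_of hnc I hall hp2 hpq hw hS hcyc fun h => rowA_lin hnc I hall hw (by omega) hp2 hpq ?_ h
  obtain ⟨-, a, ha, hwa, -⟩ := h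
  have := Nat.mul_le_mul_right (orderOf ((Nat.card F : ℕ) : ZMod p)) ha
  omega

/-- **orthogonal groups of plus type**, `w ≥ 5` -/
theorem rowA_plus [Finite G] [Fintype S] [IsSimpleGroup S] (hnc : ¬ IsMulCommutative S)
    (I : PolInst p Φ ρ ι ρ' π w 0 K)
    (hall : ∀ a : MulAut S, ∃ M : V ≃+ V, SemiAct Φ M ∧ Induces ρ' π M a) (hK : ∀ k, 2 * k < w → k ≤ K)
    (hp2 : p ≠ 2) (hpq : ¬ p ∣ Nat.card F) (hw : 5 ≤ w)
    (hS : p ∣ (Nat.card F ^ w - 1) * ∏ i ∈ Finset.range (w - 1), (Nat.card F ^ (2 * (i + 1)) - 1))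
    (hcyc : CycC p (Nat.card F) w → RowA p S)
    (h2d : Odd (orderOf ((Nat.card F : ℕ) : ZMod p)) → w = 2 * orderOf ((Nat.card F : ℕ) : ZMod p) - 2 → RowA p S)
    (h64 : w = 6 → orderOf ((Nat.card F : ℕ) : ZMod p) = 4 → RowA p S) : RowA p S := by
  refine rowA_plus_of hnc I hall hK hp2 hpq hw hS hcyc
    (fun h => rowA_lin hnc I hall (by omega) (hK 1 (by omega)) hp2 hpq (hK _ ?_) h) h2d h64
  obtain ⟨-, a, ha, hwa, -⟩ := h
  have h1 := Nat.mul_le_mul_right (orderOf ((Nat.card F : ℕ) : ZMod p)) ha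
  have h2 : 0 < orderOf ((Nat.card F : ℕ) : ZMod p) := Arith.order_pos hpq
  omega

end Cfsg.Agent.H162.CY
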